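import Groth.Agent.L15.KerFlat.Alg
import Groth.Agent.L20.FibreScheme
import Groth.Prelude.Def_Mor2
import Groth.Prelude.Def_AlgGrp
import Mathlib.RingTheory.Flat.FaithfullyFlat.Algebra
import Mathlib.CategoryTheory.Monoidal.Cartesian.Over

/-!
A morphism of finite locally free schemes whose kernel pair has constant degree `n` and whose degrees
multiply is finite locally free of degree `n`; application to homomorphisms of group schemes.
-/

set_option autoImplicit false

universe u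

open CategoryTheory Limits AlgebraicGeometry TensorProduct MonoidalCategory CartesianMonoidalCategory
open scoped MonObj

namespace Groth.L15.KerFlat

theorem faithfullyFlat_specMap {R A B : Type u} [CommRing R] [CommRing A] [CommRing B] [Algebra R A]
    [Algebra R B] [Algebra A B] [IsScalarTower R A B] [Module.Finite R A] [Module.Flat R A]
    [Module.Finite R B] [Module.Flat R B] (a n : ℕ) (hn : 0 < n)
    (hA : ∀ p : PrimeSpectrum R, Module.rankAtStalk (R := R) A p = a)
    (hB : ∀ p : PrimeSpectrum R, Module.rankAtStalk (R := R) B p = a * n)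
    (hfib : ∀ (Q : Ideal B) [Q.IsMaximal], Module.finrank (B ⧸ Q) ((B ⧸ Q) ⊗[A] B) ≤ n) :
    Module.FaithfullyFlat A B := by
  haveI : Module.Finite A B := Module.Finite.of_restrictScalars_finite R A B
  haveI : Algebra.IsIntegral A B := Algebra.IsIntegral.of_finite A B
  obtain ⟨hflat, hker⟩ := flat_and_faithful (B := B) a n hA hB (fun q _ => by
    by_cases htop : q.map (algebraMap A B) = ⊤
    · have h0 : (q • ⊤ : Submodule A B) = ⊤ := by
        rw [Ideal.smul_top_eq_map, htop, Submodule.restrictScalars_top]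
      haveI : Subsingleton (B ⧸ (q • ⊤ : Submodule A B)) :=
        Submodule.Quotient.subsingleton_iff.mpr h0
      haveI : Subsingleton ((A ⧸ q) ⊗[A] B) :=
        (TensorProduct.quotTensorEquivQuotSMul B q).toEquiv.subsingleton
      letI := Ideal.Quotient.field q
      rw [Module.finrank_zero_of_subsingleton]
      exact Nat.zero_le n
    · obtain ⟨Q, hQ, hle⟩ := Ideal.exists_le_maximal _ htop
      have hqQ : q ≤ Q.comap (algebraMap A B) := Ideal.map_le_iff_le_comap.mp hle
      letI : Algebra (A ⧸ q) (B ⧸ Q) := (Ideal.quotientMap Q (algebraMap A B) hqQ).toAlgebra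
      haveI : IsScalarTower A (A ⧸ q) (B ⧸ Q) := IsScalarTower.of_algebraMap_eq fun _ => rfl
      letI := Ideal.Quotient.field q
      calc Module.finrank (A ⧸ q) ((A ⧸ q) ⊗[A] B)
          = Module.finrank (B ⧸ Q) ((B ⧸ Q) ⊗[A ⧸ q] ((A ⧸ q) ⊗[A] B)) :=
            (Module.finrank_baseChange).symm
        _ = Module.finrank (B ⧸ Q) ((B ⧸ Q) ⊗[A] B) :=
            (AlgebraTensorModule.cancelBaseChange A (A ⧸ q) (B ⧸ Q) (B ⧸ Q) B).finrank_eq
        _ ≤ n := hfib Q)
  haveI := hflat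
  refine { submodule_ne_top := fun m hm h => ?_ }
  rw [Ideal.smul_top_eq_map, Submodule.restrictScalars_eq_top_iff] at h
  haveI := hm
  obtain ⟨Q, hQ, hQm⟩ := Ideal.exists_ideal_over_maximal_of_isIntegral (S := B) m (hker hn m)
  exact hQ.ne_top (top_unique (h ▸ Ideal.map_le_iff_le_comap.mpr (hQm ▸ le_refl m)))

theorem faithfullyFlat_of_spec {R A B : CommRingCat.{u}} (a : R ⟶ A) (φ : A ⟶ B) (c n : ℕ)
    (hn : 0 < n) (hg : Mor2.IsFinLocFreeOfDeg c (Spec.map a))
    (hfg : Mor2.IsFinLocFreeOfDeg (c * n) (Spec.map φ ≫ Spec.map a))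
    {P : Scheme.{u}} (p q : P ⟶ Spec B) (hP : IsPullback p q (Spec.map φ) (Spec.map φ)) [Flat p]
    [IsFinite p] (hp : ∀ x, p.finrank x = n) : φ.hom.FaithfullyFlat := by
  rw [← Spec.map_comp] at hfg
  obtain ⟨⟨hAf, hAl, -⟩, hAd⟩ := hg
  obtain ⟨⟨hBf, hBl, -⟩, hBd⟩ := hfg
  rw [IsFinite.SpecMap_iff] at hAf hBf
  rw [Flat.SpecMap_iff] at hAl hBl
  algebraize [a.hom, φ.hom, (a ≫ φ).hom]
  haveI : IsScalarTower R A B := IsScalarTower.of_algebraMap_eq fun _ => rfl
  refine faithfullyFlat_specMap (R := R) c n hn (fun x => ?_) (fun x => ?_) (fun Q _ => ?_)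
  · rw [← Scheme.Hom.finrank_SpecMap_algebraMap]
    exact hAd x
  · rw [← Scheme.Hom.finrank_SpecMap_algebraMap]
    exact hBd x
  · letI := Ideal.Quotient.field Q
    let x : Spec (CommRingCat.of (B ⧸ Q)) ⟶ Spec B :=
      Spec.map (CommRingCat.ofHom (algebraMap B (B ⧸ Q)))
    let i := pullback.fst x p
    have hcomp : x ≫ Spec.map φ = Spec.map (CommRingCat.ofHom (algebraMap A (B ⧸ Q))) := by
      rw [← Spec.map_comp]
      rfl
    -- the fibre of `Spec φ` over the point is a base change of `p`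
    have h1 : IsPullback (pullback.snd x p ≫ q) (pullback.fst x p) (Spec.map φ) (x ≫ Spec.map φ) :=
      (IsPullback.of_hasPullback x p).flip.paste_horiz hP.flip
    rw [hcomp] at h1
    have h2 : IsPullback (Spec.map (CommRingCat.ofHom
        (Algebra.TensorProduct.includeRight.toRingHom : B →+* (B ⧸ Q) ⊗[A] B)))
        (Spec.map (CommRingCat.ofHom (algebraMap (B ⧸ Q) ((B ⧸ Q) ⊗[A] B))))
        (Spec.map φ) (Spec.map (CommRingCat.ofHom (algebraMap A (B ⧸ Q)))) :=
      (isPullback_SpecMap_of_isPushout _ _ _ _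
        (CommRingCat.isPushout_tensorProduct A (B ⧸ Q) B)).flip
    have e : Spec.map (CommRingCat.ofHom (algebraMap (B ⧸ Q) ((B ⧸ Q) ⊗[A] B))) =
        (h2.isoIsPullback _ _ h1).hom ≫ pullback.fst x p :=
      (IsPullback.isoIsPullback_hom_snd _ _ h2 h1).symm
    haveI : Module.Finite A B := Module.Finite.of_restrictScalars_finite R A B
    let z : PrimeSpectrum (B ⧸ Q) := default
    have hz : Module.rankAtStalk (R := B ⧸ Q) ((B ⧸ Q) ⊗[A] B) z = n := by
      rw [← Scheme.Hom.finrank_SpecMap_algebraMap, e, Scheme.Hom.finrank_comp_left_of_isIso]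
      exact (Scheme.Hom.finrank_pullback_fst p x _).trans (hp _)
    rw [Module.rankAtStalk_eq_finrank_of_free] at hz
    exact le_of_eq hz

theorem isPullback_horiz_iso_snd {P X X' : Scheme.{u}} (p : P ⟶ X) (e : X ≅ X') :
    IsPullback (𝟙 P) (p ≫ e.hom) p e.inv := IsPullback.of_horiz_isIso ⟨by simp⟩

/-- A morphism of finite locally free schemes over an affine base whose degrees multiply and whose
kernel pair has degree `n` is finite locally free of degree `n`. -/
theorem isFinLocFreeOfDeg_of_kernelPair {R : CommRingCat.{u}} {X Y : Scheme.{u}} (f : X ⟶ Y)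
    (g : Y ⟶ Spec R) (c n : ℕ) (hn : 0 < n) (hg : Mor2.IsFinLocFreeOfDeg c g)
    (hfg : Mor2.IsFinLocFreeOfDeg (c * n) (f ≫ g))
    {P : Scheme.{u}} (p q : P ⟶ X) (hP : IsPullback p q f f) [Flat p] [IsFinite p]
    (hp : ∀ x, p.finrank x = n) :
    Mor2.IsFinLocFreeOfDeg n f ∧ Surjective f := by
  obtain ⟨⟨hgf, hgl, hgp⟩, hgd⟩ := hg
  obtain ⟨⟨hff, hfl, hfp⟩, hfd⟩ := hfg
  haveI : IsAffine Y := isAffine_of_isAffineHom g
  haveI : IsAffine X := isAffine_of_isAffineHom (f ≫ g)
  haveI : IsFinite f := MorphismProperty.of_postcomp @IsFinite f g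
    (inferInstance : IsSeparated g) hff
  haveI : LocallyOfFinitePresentation f := Groth.L20.locallyOfFinitePresentation_of_comp f g
  obtain ⟨φ, hφ⟩ := Spec.map_surjective (X.isoSpec.inv ≫ f ≫ Y.isoSpec.hom)
  obtain ⟨a, ha⟩ := Spec.map_surjective (Y.isoSpec.inv ≫ g)
  have hff' : φ.hom.FaithfullyFlat := by
    have hg' : Mor2.IsFinLocFreeOfDeg c (Spec.map a) := by
      rw [ha]
      refine ⟨⟨inferInstance, inferInstance, inferInstance⟩, fun s => ?_⟩
      rw [Scheme.Hom.finrank_comp_left_of_isIso]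
      exact hgd s
    have hfg' : Mor2.IsFinLocFreeOfDeg (c * n) (Spec.map φ ≫ Spec.map a) := by
      rw [hφ, ha]
      simp only [Category.assoc, Iso.hom_inv_id_assoc]
      refine ⟨⟨inferInstance, inferInstance, inferInstance⟩, fun s => ?_⟩
      rw [Scheme.Hom.finrank_comp_left_of_isIso]
      exact hfd s
    have hP' : IsPullback (p ≫ X.isoSpec.hom) (q ≫ X.isoSpec.hom) (Spec.map φ) (Spec.map φ) := by
      rw [hφ]
      exact hP.of_iso (Iso.refl P) X.isoSpec X.isoSpec Y.isoSpec (by simp) (by simp) (by simp)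
        (by simp)
    refine faithfullyFlat_of_spec a φ c n hn hg' hfg' _ _ hP' fun x => ?_
    rw [Scheme.Hom.finrank_of_isPullback _ _ _ _ (isPullback_horiz_iso_snd p X.isoSpec)]
    exact hp _
  haveI hFl : Flat (Spec.map φ) := Flat.SpecMap_iff.mpr hff'.flat
  haveI hSu : Surjective (Spec.map φ) := ⟨(RingHom.FaithfullyFlat.iff_flat_and_comap_surjective.mp hff').2⟩
  have hf : f = X.isoSpec.hom ≫ Spec.map φ ≫ Y.isoSpec.inv := by
    rw [hφ]; simp
  haveI hflat : Flat f := by rw [hf]; infer_instance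
  haveI hsurj : Surjective f := by rw [hf]; infer_instance
  refine ⟨⟨⟨inferInstance, inferInstance, inferInstance⟩, fun y => ?_⟩, hsurj⟩
  obtain ⟨x, rfl⟩ := f.surjective y
  rw [← Scheme.Hom.finrank_of_isPullback q p f f hP.flip x, hp]

section Group

variable {C : Type*} [Category C] [CartesianMonoidalCategory C]

theorem kernel_comp {N G Q : C} [GrpObj Q] {i : N ⟶ G} {φ : G ⟶ Q}
    (h : IsPullback i (toUnit N) φ η[Q]) : i ≫ φ = 1 := by
  rw [h.w]; rfl

theorem kernel_lift {N G Q : C} [GrpObj Q] {i : N ⟶ G} {φ : G ⟶ Q}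
    (h : IsPullback i (toUnit N) φ η[Q]) {T : C} {x : T ⟶ G} (hx : x ≫ φ = 1) :
    ∃ y : T ⟶ N, y ≫ i = x :=
  ⟨h.lift x (toUnit T) hx, h.lift_fst _ _ _⟩

theorem kernel_ext {N G Q : C} [GrpObj Q] {i : N ⟶ G} {φ : G ⟶ Q}
    (h : IsPullback i (toUnit N) φ η[Q]) {T : C} {a b : T ⟶ N} (hab : a ≫ i = b ≫ i) : a = b :=
  h.hom_ext hab (toUnit_unique _ _)

theorem isKernel_of_points' {N G Q : C} [GrpObj Q] (i : N ⟶ G) (φ : G ⟶ Q)
    (hi : i ≫ φ = 1) (hmono : ∀ {T : C} (a b : T ⟶ N), a ≫ i = b ≫ i → a = b)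
    (h : ∀ (T : C) (t : T ⟶ G), t ≫ φ = 1 → ∃ g : T ⟶ N, g ≫ i = t) :
    IsPullback i (toUnit N) φ η[Q] := by
  have hone : ∀ (X : C) (a : X ⟶ 𝟙_ C), a ≫ η[Q] = 1 := fun X a => by
    rw [MonObj.one_eq_one, MonObj.comp_one]
  refine ⟨⟨by rw [hi, hone]⟩, ⟨PullbackCone.IsLimit.mk _
    (fun s => (h _ s.fst (s.condition.trans (hone _ _))).choose)
    (fun s => (h _ s.fst (s.condition.trans (hone _ _))).choose_spec)
    (fun s => toUnit_unique _ _)
    (fun s m hm _ => hmono _ _
      (hm.trans (h _ s.fst (s.condition.trans (hone _ _))).choose_spec.symm))⟩⟩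

/-- The kernel pair of a homomorphism. -/
theorem isPullback_kernelPair {N G Q : C} [GrpObj G] [GrpObj Q] {i : N ⟶ G} {φ : G ⟶ Q}
    [IsMonHom φ] (h : IsPullback i (toUnit N) φ η[Q]) :
    IsPullback (fst G N) (fst G N * (snd G N ≫ i)) φ φ := by
  have hw : fst G N ≫ φ = (fst G N * (snd G N ≫ i)) ≫ φ := by
    rw [MonObj.mul_comp, Category.assoc, kernel_comp h, MonObj.comp_one, _root_.mul_one]
  have hs : ∀ s : PullbackCone φ φ, ∃ y : s.pt ⟶ N, y ≫ i = s.fst⁻¹ * s.snd := by
    intro s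
    apply kernel_lift h
    have e1 : (s.fst⁻¹ * s.fst) ≫ φ = (s.fst ≫ φ)⁻¹ * (s.snd ≫ φ) := by
      rw [inv_mul_cancel, MonObj.one_comp, ← s.condition, inv_mul_cancel]
    rw [MonObj.mul_comp] at e1 ⊢
    rw [← s.condition]
    rw [← MonObj.mul_comp, inv_mul_cancel, MonObj.one_comp]
  refine ⟨⟨hw⟩, ⟨PullbackCone.IsLimit.mk _ (fun s => lift s.fst (hs s).choose)
    (fun s => lift_fst _ _) (fun s => ?_) (fun s m hm₁ hm₂ => ?_)⟩⟩
  · rw [MonObj.comp_mul, lift_fst, ← Category.assoc, lift_snd, (hs s).choose_spec,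
      mul_inv_cancel_left]
  · apply CartesianMonoidalCategory.hom_ext
    · rw [lift_fst, hm₁]
    · rw [lift_snd]
      apply kernel_ext h
      rw [(hs s).choose_spec, ← hm₂, MonObj.comp_mul, hm₁, Category.assoc, inv_mul_cancel_left]

end Group

/-- A homomorphism of finite locally free group schemes with kernel of order `n`, orders
multiplying, is finite locally free of degree `n` and surjective. -/
theorem isFinLocFreeOfDeg_of_kernel {R : CommRingCat.{u}} {N G Q : Over (Spec R)} [GrpObj G]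
    [GrpObj Q] {i : N ⟶ G} {φ : G ⟶ Q} [IsMonHom φ] (h : AlgGrp.IsKernel i φ) (c n : ℕ)
    (hn : 0 < n) (hN : Mor2.IsFinLocFreeOfDeg n N.hom) (hQ : Mor2.IsFinLocFreeOfDeg c Q.hom)
    (hG : Mor2.IsFinLocFreeOfDeg (c * n) G.hom) :
    Mor2.IsFinLocFreeOfDeg n φ.left ∧ Surjective φ.left := by
  obtain ⟨⟨hNf, hNl, hNp⟩, hNd⟩ := hN
  have hT : IsPullback (fst G N).left (snd G N).left G.hom N.hom := IsPullback.of_hasPullback _ _
  haveI : IsFinite (fst G N).left := MorphismProperty.of_isPullback (P := @IsFinite) hT.flip hNf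
  haveI : Flat (fst G N).left := MorphismProperty.of_isPullback (P := @Flat) hT.flip hNl
  rw [← Over.w φ] at hG
  refine isFinLocFreeOfDeg_of_kernelPair φ.left Q.hom c n hn hQ hG (fst G N).left
    (fst G N * (snd G N ≫ i)).left ((isPullback_kernelPair h).map (Over.forget _)) fun x => ?_
  rw [Scheme.Hom.finrank_of_isPullback _ _ _ _ hT.flip, hNd]

end Groth.L15.KerFlat
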