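import Mathlib.RingTheory.Ideal.Quotient.ChineseRemainder
import Mathlib.RingTheory.QuasiFinite.Basic
import Mathlib.RingTheory.Spectrum.Prime.FreeLocus
import Mathlib.RingTheory.Flat.Localization
import Mathlib.LinearAlgebra.TensorProduct.Quotient

/-!
A map of finite flat algebras of ranks `a` and `a * n` whose fibres have degree at most `n` is flat.
-/

set_option autoImplicit false

universe u

open TensorProduct

namespace Groth.L15.KerFlat

variable {R A B : Type u} [CommRing R] [CommRing A] [CommRing B] [Algebra R A] [Algebra R B]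
  [Algebra A B] [IsScalarTower R A B]

attribute [local instance] Ideal.Quotient.field

theorem exists_span_top {κ V : Type*} [Field κ] [AddCommGroup V] [Module κ V] [Module.Finite κ V]
    {n : ℕ} (h : Module.finrank κ V ≤ n) : ∃ v : Fin n → V, Submodule.span κ (Set.range v) = ⊤ := by
  let b := Module.finBasis κ V
  refine ⟨fun i => if hi : (i : ℕ) < Module.finrank κ V then b ⟨i, hi⟩ else 0, ?_⟩
  rw [← top_le_iff, ← b.span_eq, Submodule.span_le]
  rintro _ ⟨j, rfl⟩
  refine Submodule.subset_span ⟨⟨j, lt_of_lt_of_le j.2 h⟩, ?_⟩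
  simp

set_option maxHeartbeats 1000000 in
/-- Near a maximal ideal `p` of `R` the module `B` is generated over `A` by `n` elements. -/
theorem exists_gen [Module.Finite R A] [Module.Finite R B] (n : ℕ)
    (hres : ∀ (q : Ideal A) [q.IsMaximal],
      Module.finrank (A ⧸ q) ((A ⧸ q) ⊗[A] B) ≤ n)
    (p : Ideal R) [p.IsMaximal] :
    ∃ φ : (Fin n → A) →ₗ[A] B, ∀ b : B, ∃ r : R, r ∉ p ∧ r • b ∈ LinearMap.range φ := by
  classical
  haveI : Module.Finite A B := Module.Finite.of_restrictScalars_finite R A B
  let ι := {q : Ideal A // q.IsMaximal ∧ q.comap (algebraMap R A) = p}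
  haveI : Finite ι := by
    have hf : {q : Ideal A | q.IsMaximal ∧ q.comap (algebraMap R A) = p}.Finite :=
      (Algebra.QuasiFinite.finite_primesOver (R := R) (S := A) p).subset
        fun q hq => ⟨hq.1.isPrime, ⟨hq.2.symm⟩⟩
    exact hf.to_subtype
  have hcop : Pairwise (fun i j : ι => IsCoprime i.1 j.1) := fun i j hij => by
    haveI := i.2.1; haveI := j.2.1
    exact Ideal.isCoprime_of_isMaximal (fun he => hij (Subtype.ext he))
  have hv : ∀ i : ι, ∃ v : Fin n → (A ⧸ i.1) ⊗[A] B,
      Submodule.span (A ⧸ i.1) (Set.range v) = ⊤ := fun i => by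
    haveI := i.2.1
    exact exists_span_top (hres i.1)
  choose v hv using hv
  have hb : ∀ k : Fin n, ∃ b : B, ∀ i : ι, (1 : A ⧸ i.1) ⊗ₜ[A] b = v i k := fun k => by
    obtain ⟨b, hb⟩ := Ideal.pi_tensorProductMk_quotient_surjective (M := B)
      (I := fun i : ι => i.1) hcop (fun i => v i k)
    exact ⟨b, fun i => congrFun hb i⟩
  choose b hb using hb
  refine ⟨Fintype.linearCombination A b, ?_⟩
  let φ := Fintype.linearCombination A b
  let M' := B ⧸ LinearMap.range φ
  let N : Submodule A M' := p.map (algebraMap R A) • ⊤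
  have hN : N = ⊤ := by
    by_contra hne
    have hann : Module.annihilator A (M' ⧸ N) ≠ ⊤ := by
      intro htop
      apply hne
      rw [Submodule.eq_top_iff']
      intro m
      have h1 : (1 : A) • N.mkQ m = 0 :=
        Module.mem_annihilator.mp (htop ▸ Submodule.mem_top) _
      rw [one_smul] at h1
      exact (Submodule.Quotient.mk_eq_zero N).mp h1
    obtain ⟨q, hq, hle⟩ := Ideal.exists_le_maximal _ hann
    have hpq : p.map (algebraMap R A) ≤ q := by
      refine le_trans ?_ hle
      intro x hx
      rw [Module.mem_annihilator]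
      intro m
      obtain ⟨m, rfl⟩ := N.mkQ_surjective m
      rw [← map_smul]
      exact (Submodule.Quotient.mk_eq_zero N).mpr (Submodule.smul_mem_smul hx Submodule.mem_top)
    have hcomap : q.comap (algebraMap R A) = p :=
      (Ideal.IsMaximal.eq_of_le ‹p.IsMaximal›
        (Ideal.comap_ne_top _ hq.ne_top) (Ideal.map_le_iff_le_comap.mp hpq)).symm
    let i : ι := ⟨q, hq, hcomap⟩
    have hspan : ∀ y : B, ∃ x : Fin n → A, y - φ x ∈ q • (⊤ : Submodule A B) := by
      intro y
      have : (1 : A ⧸ q) ⊗ₜ[A] y ∈ Submodule.span (A ⧸ q) (Set.range (v i)) := by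
        rw [hv i]; exact Submodule.mem_top
      obtain ⟨c, hc⟩ := (Submodule.mem_span_range_iff_exists_fun (A ⧸ q)).mp this
      choose x hx using fun k => Ideal.Quotient.mk_surjective (I := q) (c k)
      refine ⟨x, ?_⟩
      rw [← Submodule.Quotient.eq, ← quotTensorEquivQuotSMul_mk_one_tmul,
        ← quotTensorEquivQuotSMul_mk_one_tmul, ← hc]
      congr 1
      rw [show φ x = ∑ k, x k • b k from Fintype.linearCombination_apply A b x,
        TensorProduct.tmul_sum]
      refine Finset.sum_congr rfl fun k _ => ?_
      rw [TensorProduct.tmul_smul, ← hx k, hb k i]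
      exact (algebraMap_smul (A ⧸ q) (x k) (v i k)).symm
    have hle' : (⊤ : Submodule A (M' ⧸ N)) ≤ q • ⊤ := by
      intro z _
      obtain ⟨m, rfl⟩ := N.mkQ_surjective z
      obtain ⟨y, rfl⟩ := (LinearMap.range φ).mkQ_surjective m
      obtain ⟨x, hx⟩ := hspan y
      have e1 : (LinearMap.range φ).mkQ y = (LinearMap.range φ).mkQ (y - φ x) := by
        rw [map_sub, show (LinearMap.range φ).mkQ (φ x) = 0 from
          (Submodule.Quotient.mk_eq_zero _).mpr ⟨x, rfl⟩, sub_zero]
      rw [e1]
      have := Submodule.mem_map_of_mem (f := N.mkQ ∘ₗ (LinearMap.range φ).mkQ) hx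
      rw [Submodule.map_smul''] at this
      exact Submodule.smul_mono le_rfl le_top this
    obtain ⟨r, hr1, hr⟩ :=
      Submodule.exists_sub_one_mem_and_smul_eq_zero_of_fg_of_le_smul q ⊤ Module.Finite.fg_top hle'
    have hrq : r ∈ q := hle (Module.mem_annihilator.mpr fun z => hr z Submodule.mem_top)
    exact hq.ne_top ((Ideal.eq_top_iff_one q).mpr (by simpa using q.sub_mem hrq hr1))
  have hle : (⊤ : Submodule R M') ≤ p • ⊤ := by
    have := congrArg (Submodule.restrictScalars R) hN
    rw [Ideal.smul_restrictScalars, Submodule.restrictScalars_top] at this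
    exact this.ge
  haveI : Module.Finite R M' :=
    Module.Finite.trans A M'
  obtain ⟨r, hr1, hr⟩ :=
    Submodule.exists_sub_one_mem_and_smul_eq_zero_of_fg_of_le_smul p ⊤ Module.Finite.fg_top hle
  intro y
  refine ⟨r, fun hrp => ‹p.IsMaximal›.ne_top
    ((Ideal.eq_top_iff_one p).mpr (by simpa using p.sub_mem hrp hr1)), ?_⟩
  have h0 := hr ((LinearMap.range φ).mkQ y) Submodule.mem_top
  rw [← LinearMap.map_smul_of_tower] at h0
  exact (Submodule.Quotient.mk_eq_zero _).mp h0

set_option maxHeartbeats 1000000 in
theorem flat_and_faithful [Module.Finite R A] [Module.Flat R A] [Module.Finite R B]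
    [Module.Flat R B] (a n : ℕ)
    (hA : ∀ p : PrimeSpectrum R, Module.rankAtStalk (R := R) A p = a)
    (hB : ∀ p : PrimeSpectrum R, Module.rankAtStalk (R := R) B p = a * n)
    (hres : ∀ (q : Ideal A) [q.IsMaximal], Module.finrank (A ⧸ q) ((A ⧸ q) ⊗[A] B) ≤ n) :
    Module.Flat A B ∧
      (0 < n → ∀ (q : Ideal A) [q.IsMaximal], RingHom.ker (algebraMap A B) ≤ q) := by
  haveI : Algebra.IsIntegral R A := Algebra.IsIntegral.of_finite R A
  -- the local presentation at a maximal ideal of `A`
  have key : ∀ (q : Ideal A) [q.IsMaximal], ∃ φ : (Fin n → A) →ₗ[A] B,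
      (∀ b : B, ∃ c : A, c ∉ q ∧ c • b ∈ LinearMap.range φ) ∧
      (∀ x, φ x = 0 → ∃ c : A, c ∉ q ∧ c • x = 0) := by
    intro q _
    let p := q.comap (algebraMap R A)
    haveI : p.IsMaximal := Ideal.isMaximal_comap_of_isIntegral_of_isMaximal q
    obtain ⟨φ, hφ⟩ := exists_gen n hres p
    refine ⟨φ, fun b => ?_, fun x hx => ?_⟩
    · obtain ⟨r, hr, hrb⟩ := hφ b
      exact ⟨algebraMap R A r, hr, by rwa [algebraMap_smul]⟩
    · let S := p.primeCompl
      let φR := φ.restrictScalars R
      let φp := LocalizedModule.map S φR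
      haveI : Module.Flat R (Fin n → A) :=
        Module.Flat.of_linearEquiv (TensorProduct.piScalarRight R R A (Fin n)).symm
      haveI hfs : Module.Free (Localization S) (LocalizedModule S (Fin n → A)) :=
        Module.free_of_flat_of_isLocalRing (R := Localization.AtPrime p)
      haveI hft : Module.Free (Localization S) (LocalizedModule S B) :=
        Module.free_of_flat_of_isLocalRing (R := Localization.AtPrime p)
      have hsurj : Function.Surjective φp := by
        intro z
        induction z using LocalizedModule.induction_on with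
        | h m s =>
          obtain ⟨r, hr, y, hy⟩ := hφ m
          refine ⟨LocalizedModule.mk y (⟨r, hr⟩ * s), ?_⟩
          rw [LocalizedModule.map_mk, show φR y = r • m from hy, ← Submonoid.smul_def (⟨r, hr⟩ : S) m,
            LocalizedModule.mk_cancel_common_left]
      have hrk : Module.finrank (Localization S) (LocalizedModule S B) =
          Module.finrank (Localization S) (LocalizedModule S (Fin n → A)) := by
        show Module.rankAtStalk B ⟨p, inferInstance⟩ = Module.rankAtStalk (Fin n → A) ⟨p, inferInstance⟩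
        rw [hB, Module.rankAtStalk_pi, finsum_eq_sum_of_fintype]
        simp [hA, mul_comm]
      haveI : Nontrivial (Localization S) :=
        inferInstanceAs (Nontrivial (Localization.AtPrime p))
      let e := LinearEquiv.ofFinrankEq _ _ hrk
      have hinj : Function.Injective φp := by
        have := OrzechProperty.injective_of_surjective_endomorphism (e.toLinearMap ∘ₗ φp)
          (e.surjective.comp hsurj)
        exact Function.Injective.of_comp this
      have h0 : φp (LocalizedModule.mk x 1) = 0 := by
        rw [LocalizedModule.map_mk, show φR x = 0 from hx, LocalizedModule.zero_mk]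
      have h1 := hinj (h0.trans (map_zero φp).symm)
      rw [← LocalizedModule.zero_mk (1 : S), LocalizedModule.mk_eq] at h1
      obtain ⟨c, hc⟩ := h1
      refine ⟨algebraMap R A c.1, c.2, ?_⟩
      rw [algebraMap_smul]
      simpa [Submonoid.smul_def] using hc
  refine ⟨Module.flat_of_localized_maximal B fun q _ => ?_, fun hn q _ x hx => ?_⟩
  · obtain ⟨φ, hs, hi⟩ := key q
    let g := LocalizedModule.mkLinearMap q.primeCompl B ∘ₗ φ
    haveI : IsLocalizedModule q.primeCompl g :=
      { map_units := IsLocalizedModule.map_units (LocalizedModule.mkLinearMap q.primeCompl B)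
        surj := fun z => by
          obtain ⟨⟨b, s⟩, hb⟩ :=
            IsLocalizedModule.surj q.primeCompl (LocalizedModule.mkLinearMap q.primeCompl B) z
          obtain ⟨c, hc, y, hy⟩ := hs b
          refine ⟨(y, ⟨c, hc⟩ * s), ?_⟩
          show (⟨c, hc⟩ * s) • z = LocalizedModule.mkLinearMap q.primeCompl B (φ y)
          rw [mul_smul, hb, hy, map_smul]
          rfl
        exists_of_eq := fun {x₁ x₂} h => by
          obtain ⟨s, hs'⟩ :=
            IsLocalizedModule.exists_of_eq (S := q.primeCompl)
              (f := LocalizedModule.mkLinearMap q.primeCompl B) h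
          obtain ⟨c, hc, hcx⟩ := hi ((s : A) • (x₁ - x₂)) (by
            rw [map_smul, map_sub, smul_sub, sub_eq_zero]
            exact hs')
          refine ⟨⟨c, hc⟩ * s, ?_⟩
          rw [smul_smul, smul_sub, sub_eq_zero] at hcx
          exact hcx }
    haveI : Module.Flat (Localization q.primeCompl) (LocalizedModule q.primeCompl B) :=
      Module.Flat.of_isLocalizedModule (Localization q.primeCompl) q.primeCompl g
    exact Module.Flat.trans A (Localization q.primeCompl) _
  · obtain ⟨φ, -, hi⟩ := key q
    obtain ⟨c, hc, hcx⟩ := hi (x • Pi.single (⟨0, hn⟩ : Fin n) (1 : A)) (by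
      rw [map_smul, Algebra.smul_def, RingHom.mem_ker.mp hx, zero_mul])
    have h := congrFun hcx ⟨0, hn⟩
    simp at h
    exact (Ideal.IsPrime.mem_or_mem inferInstance
      (show c * x ∈ q by rw [h]; exact q.zero_mem)).resolve_left hc

end Groth.L15.KerFlat
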