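import Groth.Agent.L15.KerFlat.Basic
import Groth.Prelude.Def_BT

/-! The layers of an `ℓ`-divisible group. -/

set_option autoImplicit false

universe u

open CategoryTheory Limits AlgebraicGeometry MonoidalCategory CartesianMonoidalCategory
open scoped MonObj

namespace Groth.L15.KerFlat

variable {S : Scheme.{u}} {ℓ h : ℕ} (G : BTGrp.ProBT ℓ S h)

theorem incl_ext (ν : ℕ) {T : Over S} {a b : T ⟶ G.G ν} (hab : a ≫ G.incl ν = b ≫ G.incl ν) : a = b :=
  kernel_ext (G.isKernel ν) hab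

theorem incl_zero : G.incl 0 = 1 := by
  have := kernel_comp (G.isKernel 0)
  rwa [pow_zero, pow_one, Category.comp_id] at this

theorem pow_eq_one_of_one {T : Over S} (x : T ⟶ G.G 1) : x ^ ℓ = 1 := by
  have h1 : (𝟙 (G.G 1)) ^ ℓ = 1 := by
    rw [← G.proj_incl 0, incl_zero, MonObj.comp_one]
  have := congrArg (fun y => x ≫ y) h1
  simpa [MonObj.comp_pow, MonObj.comp_one] using this

variable (i : (t : ℕ) → (G.G 1 ⟶ G.G (t + 1))) (hi0 : i 0 = 𝟙 (G.G 1))
  (hi : ∀ t : ℕ, i (t + 1) = i t ≫ G.incl (t + 1))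

include hi0 hi in
theorem isKernel_pow (t : ℕ) : AlgGrp.IsKernel (i t) ((𝟙 (G.G (t + 1))) ^ ℓ) := by
  induction t with
  | zero =>
    refine isKernel_of_points' _ _ ?_ (fun {T} a b hab => ?_) fun T x _ => ⟨x, ?_⟩
    · rw [hi0, Category.id_comp]; exact pow_eq_one_of_one G _
    · simpa [hi0] using hab
    · rw [hi0]; exact Category.comp_id x
  | succ t ih =>
    refine isKernel_of_points' _ _ ?_ (fun {T} a b hab => ?_) fun T x hx => ?_
    · have h1 := kernel_comp ih
      rw [MonObj.comp_pow, Category.comp_id] at h1 ⊢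
      rw [hi, ← MonObj.pow_comp, h1, MonObj.one_comp]
    · rw [hi, ← Category.assoc, ← Category.assoc] at hab
      exact kernel_ext ih (incl_ext G _ hab)
    · rw [MonObj.comp_pow, Category.comp_id] at hx
      have hx' : x ≫ (𝟙 (G.G (t + 1 + 1))) ^ ℓ ^ (t + 1) = 1 := by
        rw [MonObj.comp_pow, Category.comp_id, pow_succ', pow_mul, hx, _root_.one_pow]
      obtain ⟨y, hy⟩ := kernel_lift (G.isKernel (t + 1)) hx'
      have hyl : y ^ ℓ = 1 := by
        apply incl_ext G (t + 1)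
        rw [MonObj.pow_comp, hy, hx, MonObj.one_comp]
      obtain ⟨z, hz⟩ := kernel_lift (x := y) ih (by rw [MonObj.comp_pow, Category.comp_id, hyl])
      exact ⟨z, by rw [hi, ← Category.assoc, hz, hy]⟩

include hi0 hi in
theorem isKernel_proj (t : ℕ) : AlgGrp.IsKernel (i t) (G.proj t) := by
  have hk := isKernel_pow G i hi0 hi t
  have key : ∀ {T : Over S} (x : T ⟶ G.G (t + 1)), x ≫ G.proj t = 1 ↔
      x ≫ (𝟙 (G.G (t + 1))) ^ ℓ = 1 := fun {T} x => by
    rw [← G.proj_incl t, ← Category.assoc]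
    refine ⟨fun hx => by rw [hx, MonObj.one_comp], fun hx => incl_ext G t ?_⟩
    rw [hx, MonObj.one_comp]
  refine isKernel_of_points' _ _ ((key _).mpr (kernel_comp hk)) (fun a b hab => kernel_ext hk hab) ?_
  exact fun T x hx => kernel_lift hk ((key x).mp hx)

end Groth.L15.KerFlat
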